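import Groth.Agent.Lib.HB26.Spread
import Mathlib

/-!
# The piece of an idempotent, and its fibres
-/

set_option autoImplicit false
universe u

open TensorProduct

namespace GrothLib.CMPiece1

/-- A localisation of a Cohen–Macaulay ring is Cohen–Macaulay. -/
theorem isCohenMacaulayRing_of_isLocalization {A : Type u} [CommRing A] [hA : LocCoh.IsCohenMacaulayRing A]
    (M : Submonoid A) (L : Type u) [CommRing L] [Algebra A L] [IsLocalization M L] :
    LocCoh.IsCohenMacaulayRing L := by
  haveI : IsNoetherianRing L := IsLocalization.isNoetherianRing M L inferInstance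
  refine ⟨fun P _ => ?_⟩
  haveI : IsLocalization.AtPrime (Localization.AtPrime P) (P.comap (algebraMap A L)) :=
    IsLocalization.isLocalization_isLocalization_atPrime_isLocalization M _ P
  haveI := hA.isCohenMacaulayLocalRing_localization (P.comap (algebraMap A L))
  exact HB26.isCohenMacaulayLocalRing_of_ringEquiv
    (IsLocalization.algEquiv (P.comap (algebraMap A L)).primeCompl
      (Localization.AtPrime (P.comap (algebraMap A L))) (Localization.AtPrime P)).toRingEquiv

/-- The fibre of the piece of an idempotent is Cohen–Macaulay if the whole fibre is. -/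
theorem isCohenMacaulayRing_tensor_quotient (R S K : Type u) [CommRing R] [CommRing S] [Algebra R S]
    [CommRing K] [Algebra R K] [LocCoh.IsCohenMacaulayRing (K ⊗[R] S)] {e : S} (he : IsIdempotentElem e) :
    LocCoh.IsCohenMacaulayRing (K ⊗[R] (S ⧸ Ideal.span {1 - e})) := by
  let φ : K ⊗[R] S →ₐ[R] K ⊗[R] (S ⧸ Ideal.span {1 - e}) :=
    Algebra.TensorProduct.map (AlgHom.id R K) (Ideal.Quotient.mkₐ R (Ideal.span {1 - e}))
  have hsurj : Function.Surjective φ :=
    TensorProduct.map_surjective Function.surjective_id Ideal.Quotient.mk_surjective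
  have hker : RingHom.ker φ = Ideal.span {1 - (1 : K) ⊗ₜ[R] e} := by
    rw [Algebra.TensorProduct.lTensor_ker _ Ideal.Quotient.mk_surjective]
    show Ideal.map _ (RingHom.ker (Ideal.Quotient.mk (Ideal.span {1 - e}))) = _
    rw [Ideal.mk_ker, Ideal.map_span, Set.image_singleton]
    simp [Algebra.TensorProduct.one_def, TensorProduct.tmul_sub]
  letI := φ.toRingHom.toAlgebra
  haveI : IsLocalization.Away ((1 : K) ⊗ₜ[R] e) (K ⊗[R] (S ⧸ Ideal.span {1 - e})) :=
    IsLocalization.away_of_isIdempotentElem
      (by show _ * _ = _; rw [Algebra.TensorProduct.tmul_mul_tmul, one_mul, he.eq]) hker hsurj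
  exact isCohenMacaulayRing_of_isLocalization (Submonoid.powers ((1 : K) ⊗ₜ[R] e)) _

end GrothLib.CMPiece1
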